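import Cfsg.Agent.H20.E7.U34
import Cfsg.Agent.H16.MatR2
import Cfsg.Agent.H16.S
import Cfsg.Agent.H27.PG1

/-! Generated by tools/h16 (computation kit). -/

set_option maxRecDepth 100000
set_option maxHeartbeats 0

namespace H20.LXU34

open H16

open Cfsg
def q : MP := ⟨12, 4, 15, 2⟩
def om : H27.Iso.F16 := H27.Iso.F16.e 2
abbrev GG : Type := GL (Fin 3) H27.Iso.F16
def C0 : List ℕ := [nat_lit 1, nat_lit 0x10, nat_lit 0x100, nat_lit 0x1000, nat_lit 0x10000, nat_lit 0x100000, nat_lit 0x1000000, nat_lit 0x10000000, nat_lit 0x100000000, nat_lit 0x1000000000, nat_lit 0x10000000000, nat_lit 0x100000000000]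
def C1 : List ℕ := [nat_lit 0x110111001011, nat_lit 0x111001100101, nat_lit 0x1010111010, nat_lit 0x111001101110, nat_lit 0x1100010111, nat_lit 0x10111011001, nat_lit 0x1101001111, nat_lit 0x100010110001, nat_lit 0x111011011010, nat_lit 0x101001110001, nat_lit 0x10110101100, nat_lit 0x11011101111]
def C2 : List ℕ := [nat_lit 0x1111111111, nat_lit 0x100000101110, nat_lit 0x10000011110, nat_lit 0x111111110001, nat_lit 0x101010100, nat_lit 0x11100010, nat_lit 0x111110110111, nat_lit 0x101010100000, nat_lit 0x11100010000, nat_lit 0x110110000111, nat_lit 0x10100101101, nat_lit 0x100010011011]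
def C3 : List ℕ := [nat_lit 0x110101011011, nat_lit 0x11110111111, nat_lit 0x11010101110, nat_lit 0x101011101110, nat_lit 0x110111100011, nat_lit 0x10101101011, nat_lit 0x11101011101, nat_lit 0x111100101110, nat_lit 0x101101001010, nat_lit 0x101011110011, nat_lit 0x100101001111, nat_lit 0x101001111101]
def C4 : List ℕ := [nat_lit 0x1000110110, nat_lit 0x100101001111, nat_lit 0x10011001111, nat_lit 0x110111001, nat_lit 0x101001011100, nat_lit 0x11001101010, nat_lit 0x110111001000, nat_lit 0x1011001101, nat_lit 0x1101001011, nat_lit 0x111001110110, nat_lit 0x11001100001, nat_lit 0x101001010001]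
def C5 : List ℕ := [nat_lit 0x1001000000, nat_lit 0x100110010100, nat_lit 0x100000010100, nat_lit 0x1000001001, nat_lit 0x110010000100, nat_lit 0x10000100, nat_lit 0x1000001, nat_lit 0x10000010110, nat_lit 0x10000100000, nat_lit 0x1000001000, nat_lit 0x10100010, nat_lit 0x100010010]
def C6 : List ℕ := [nat_lit 0x1000001000, nat_lit 0x10110100, nat_lit 0x110100110010, nat_lit 0x1001001, nat_lit 0x10110100000, nat_lit 0x100110100110, nat_lit 0x1001001000, nat_lit 0x110100010010, nat_lit 0x110100010100, nat_lit 0x1001001001, nat_lit 0x100010100110, nat_lit 0x100010010110]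
def C7 : List ℕ := [nat_lit 0x1111001001, nat_lit 0x1110101010, nat_lit 0x111110101100, nat_lit 0x111001000001, nat_lit 0x110101011001, nat_lit 0x110101011111, nat_lit 0x1000110111, nat_lit 0x101011111110, nat_lit 0x101011001110, nat_lit 0x110110001, nat_lit 0x11111011101, nat_lit 0x11001011101]
def C8 : List ℕ := [nat_lit 0x1001000110, nat_lit 0x101001010011, nat_lit 0x101111010011, nat_lit 0x1000111001, nat_lit 0x1010110101, nat_lit 0x111010110101, nat_lit 0x111000001, nat_lit 0x10110100001, nat_lit 0x10110010111, nat_lit 0x111000001000, nat_lit 0x110100011010, nat_lit 0x110010101010]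
def C9 : List ℕ := [nat_lit 0x111000111110, nat_lit 0x100110101, nat_lit 0x110010110011, nat_lit 0x111001111, nat_lit 0x100110101000, nat_lit 0x10110101110, nat_lit 0x111001111000, nat_lit 0x110101100100, nat_lit 0x110101100010, nat_lit 0x1111111111, nat_lit 0x101100010110, nat_lit 0x101100100110]
def C10 : List ℕ := [nat_lit 0x1110001000, nat_lit 0x10100000011, nat_lit 0x10010000101, nat_lit 0x110001001001, nat_lit 0x100000001010, nat_lit 0x10000111010, nat_lit 0x1001111110, nat_lit 0x1110100, nat_lit 0x111000010, nat_lit 0x1111111001, nat_lit 0x1110100000, nat_lit 0x111000010000]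
def C11 : List ℕ := [nat_lit 0x1001000110, nat_lit 0x110011110001, nat_lit 0x11000111, nat_lit 0x1000111001, nat_lit 0x11110111110, nat_lit 0x11000111000, nat_lit 0x111000001, nat_lit 0x110111101011, nat_lit 0x111011011, nat_lit 0x111000001000, nat_lit 0x111101101110, nat_lit 0x111011011000]
def C12 : List ℕ := [nat_lit 0x100011101010, nat_lit 0x1100000, nat_lit 0x1101110110, nat_lit 0x11101110100, nat_lit 0x1100000000, nat_lit 0x101110111001, nat_lit 0x101110111011, nat_lit 0x100000001001, nat_lit 0x110111100101, nat_lit 0x110111110101, nat_lit 0x1101100, nat_lit 0x111100011110]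
def C : List (List ℕ) := [C0, C1, C2] ++ [C3, C4, C5, C6, C7, C8, C9, C10, C11, C12]
def SL : List (List ℕ) := [[nat_lit 1],
  [nat_lit 2],
  [nat_lit 1, nat_lit 2, nat_lit 1, nat_lit 2, nat_lit 3, nat_lit 3],
  [nat_lit 5],
  [nat_lit 5, nat_lit 4, nat_lit 4, nat_lit 6, nat_lit 4, nat_lit 6],
  [nat_lit 7, nat_lit 7],
  [nat_lit 8],
  [nat_lit 9, nat_lit 9, nat_lit 9, nat_lit 9, nat_lit 9, nat_lit 2, nat_lit 8, nat_lit 4],
  [nat_lit 10],
  [nat_lit 8, nat_lit 8, nat_lit 8, nat_lit 10, nat_lit 10, nat_lit 8, nat_lit 8, nat_lit 1, nat_lit 8, nat_lit 4, nat_lit 4]]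
def σ : List ℕ := [nat_lit 8, nat_lit 9, nat_lit 10, nat_lit 11, nat_lit 12]
def E : List (List ℕ) := [[],
  [],
  [],
  [],
  [],
  [],
  [],
  [],
  [],
  [],
  []]
def b0 : GG := glR (matR (ixF 3) om 4 4 C0) (matR (ixF 3) om 4 4 [nat_lit 1, nat_lit 0x10, nat_lit 0x100])
  (by decide +kernel)
theorem col0 : Cols q (rhoGL _ _) (eR (ixF 3) om) ⊥ b0 C0 := cols_R (s := 4) (ixF 3) om rfl (by decide +kernel)
def b1 : GG := glR (matR (ixF 3) om 4 4 C1) (matR (ixF 3) om 4 4 [nat_lit 0x110101011011, nat_lit 0x11110111111, nat_lit 0x11010101110])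
  (by decide +kernel)
theorem col1 : Cols q (rhoGL _ _) (eR (ixF 3) om) ⊥ b1 C1 := cols_R (s := 4) (ixF 3) om rfl (by decide +kernel)
def b2 : GG := glR (matR (ixF 3) om 4 4 C2) (matR (ixF 3) om 4 4 [nat_lit 0x1000110110, nat_lit 0x100101001111, nat_lit 0x10011001111])
  (by decide +kernel)
theorem col2 : Cols q (rhoGL _ _) (eR (ixF 3) om) ⊥ b2 C2 := cols_R (s := 4) (ixF 3) om rfl (by decide +kernel)

theorem slpe_a : allZ2 (slpEnt (nat_lit 12) (nat_lit 4) (nat_lit 15) (nat_lit 2) C (nat_lit 3) SL) (nat_lit 10) (nat_lit 12) = true := by decide +kernel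
theorem rele_a : allZ2 (relEnt (nat_lit 12) (nat_lit 4) (nat_lit 15) (nat_lit 2) C (nat_lit 13) σ XU34.Rl E) (nat_lit 11) (nat_lit 3) = true := by decide +kernel
theorem misc : q.OK ∧ SL.length = 10 ∧ XU34.Rl.length = 11 ∧ allL (ltAll 1) E = true := by decide +kernel

theorem slpe : ∀ k < 10, ∀ i < 12, (slpEnt (nat_lit 12) (nat_lit 4) (nat_lit 15) (nat_lit 2) C (nat_lit 3) SL) k i = 0 := allZ2_sound slpe_a
theorem rele : ∀ k < 11, ∀ i < 3, (relEnt (nat_lit 12) (nat_lit 4) (nat_lit 15) (nat_lit 2) C (nat_lit 13) σ XU34.Rl E) k i = 0 := allZ2_sound rele_a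
noncomputable def o : List GG := [b0, b1, b2]
theorem amb : Amb q (rhoGL _ _) (eR (ixF 3) om) ⊥ := amb_GL misc.1 (by decide +kernel)
noncomputable def hs : ℕ → GG := slpG SL (tup o) o.length
theorem mact : MAct q (rhoGL _ _) (eR (ixF 3) om) ⊥ hs C 13 :=
  (mact_tup (.cons col0 (.cons col1 (.cons col2 .nil)))).slp amb (misc.2.1 ▸ slpe)
/-- the letters of the model as matrices -/
noncomputable def h : ℕ → GG := fun k => hs (nth 0 σ k)
theorem h_mem {A : Subgroup GG} (hA : ∀ a ∈ o, a ∈ A) (k : ℕ) : h k ∈ A := lnk_mem hA SL σ k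
theorem rels_of {Q : Type*} [Group Q] (π : GG →* Q) (hz : π b0 = 1) : Rels (fun k => π (h k)) XU34.Rl :=
  mact.rels_z amb (rigid_R _ _) (by decide) misc.2.2 rele π ((congrArg π (slpG_zero SL b0 _)).trans hz)
theorem word_eq {W : List ℕ} {M : Matrix (Fin 3) (Fin 3) H27.Iso.F16} (hc : ltAll 13 (W.map (nth 0 σ)) = 0 ∧ ∀ j,
    ∀ x ∈ [apM q.w q.m q.p C (W.map (nth 0 σ)) (unitV q.w (((ixF 3)).idx j))], ∀ i,
      M i j = valR om 3 4 q.w x (((ixF 3)).idx i)) : ((evA h W : GG) : Matrix (Fin 3) (Fin 3) H27.Iso.F16) = M := by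
  have := eq_word (s := 4) amb rfl (by decide) mact hc
  rwa [evA_map] at this
theorem ne : h 2 * h 0 ≠ h 0 * h 2 := fun e => by
  have h1 := word_eq (W := [0, 2]) (M := matR (ixF 3) om 4 4 [nat_lit 1, nat_lit 0x100010110, nat_lit 0x10100000, nat_lit 0x1000, nat_lit 0x100010110000, nat_lit 0x10100000000, nat_lit 0x1000000, nat_lit 0x10110100100, nat_lit 0x100000010010, nat_lit 0x1000000000, nat_lit 0x110100110010, nat_lit 0x10110100]) (by decide +kernel)
  have h2 := word_eq (W := [2, 0]) (M := matR (ixF 3) om 4 4 [nat_lit 0x110000000111, nat_lit 0x10011000, nat_lit 0x100101110, nat_lit 0x1110, nat_lit 0x10011000000, nat_lit 0x100101110000, nat_lit 0x1110000, nat_lit 0x11000010010, nat_lit 0x101110100100, nat_lit 0x1110000000, nat_lit 0x10001011, nat_lit 0x110100001101]) (by decide +kernel)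
  simp only [evA_cons, evA_nil, one_mul] at h1 h2
  exact absurd (h1.symm.trans ((congrArg Units.val e).trans h2)) (by decide +kernel)
theorem b0_cen : b0 ∈ Subgroup.center GG := center_of_scalar (c := 1) (by decide +kernel)
theorem m2 : b2 ∈ GU 3 H27.Iso.F16 4 := (H11.mem_GU_iff_matrix H27.Iso.F16.card 3 _).2 (by decide +kernel)
theorem m1 : b1 ∈ GU 3 H27.Iso.F16 4 := (H11.mem_GU_iff_matrix H27.Iso.F16.card 3 _).2 (by decide +kernel)
theorem m0 : b0 ∈ GU 3 H27.Iso.F16 4 := (H11.mem_GU_iff_matrix H27.Iso.F16.card 3 _).2 (by decide +kernel)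
theorem mem : ∀ k, h k ∈ GU 3 H27.Iso.F16 4 := h_mem (all_cons m0 (all_cons m1 (all_cons m2 all_nil)))
theorem cardX : Nat.card (PSU 3 H27.Iso.F16 4) = 62400 := by
  have := H11.card_psu (F := H27.Iso.F16) (q := 4) rfl (n := 3) (by norm_num)
  simp [Finset.prod_range_succ, Nat.even_add_one] at this
  omega
theorem equiv : Nonempty (gen XU34.g 5 ≃* PSU 3 H27.Iso.F16 4) :=
  have := XU34.simple
  link_psu XU34.bound XU34.rels XU34.card (by norm_num) (by decide) (rels_of _ ((QuotientGroup.eq_one_iff _).2 b0_cen)) ne mem cardX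

end H20.LXU34
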