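import Cfsg.Agent.H16.Slp

/-! Generated by tools/h16 (computation kit). -/

set_option maxRecDepth 100000
set_option maxHeartbeats 0

namespace H20.XU34

open H16

noncomputable def Rl : List (List ℕ) := [[nat_lit 0, nat_lit 1],
  [nat_lit 1, nat_lit 0],
  [nat_lit 2, nat_lit 3],
  [nat_lit 3, nat_lit 2],
  [nat_lit 4, nat_lit 4],
  [nat_lit 0, nat_lit 0, nat_lit 0, nat_lit 0, nat_lit 0, nat_lit 0, nat_lit 0, nat_lit 0, nat_lit 0, nat_lit 0, nat_lit 0, nat_lit 0, nat_lit 0, nat_lit 0, nat_lit 0],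
  [nat_lit 0, nat_lit 2, nat_lit 0, nat_lit 2, nat_lit 0, nat_lit 2],
  [nat_lit 0, nat_lit 0, nat_lit 0, nat_lit 3, nat_lit 3, nat_lit 0, nat_lit 2],
  [nat_lit 2, nat_lit 4, nat_lit 2, nat_lit 4, nat_lit 2, nat_lit 4],
  [nat_lit 0, nat_lit 4, nat_lit 0, nat_lit 4, nat_lit 0, nat_lit 4, nat_lit 0, nat_lit 4, nat_lit 0, nat_lit 4],
  [nat_lit 0, nat_lit 0, nat_lit 0, nat_lit 0, nat_lit 2, nat_lit 4, nat_lit 3, nat_lit 0, nat_lit 2, nat_lit 4, nat_lit 3]]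
noncomputable def Pd : List ℕ := [nat_lit 0x2f7291c4058f999c4c6db3f4a5de182aed51f2644d0f6e350bd18a55ba16c980a6a25a2d10c57074680a284e48ea23c0cc96201028e0218100,
  nat_lit 0x3c68e92315c81fbd4ed4d997278b1d8054c3b42b51101edd9be2631292582c6b86ca44b06421791563950750113233e70d1728082861404180,
  nat_lit 0x4056cdc367afcfb542b9ca43479e2d2c749be6455d1c1cc510c24ed79868345196e254254ea98175819305528c4034050d82204408f161c200,
  nat_lit 0x4074b1db144a5abd36f1c1f7cad31542d98137e587992e44c341c95b8b72c972812cce2028bd50a5a8c307089cf240674d0d04488011820280,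
  nat_lit 0x3a52c9da27b017316e90e1f2ef9c1a3ce4a164e49f9d566463620f059b68bd43540c130866b03ad0ca85231c3c1a542441182a4c2051a24001]
noncomputable def P (k u : ℕ) : ℕ := Nat.land (Nat.shiftRight (nth (nat_lit 0) Pd k) (Nat.mul u (nat_lit 7))) (nat_lit 127)
noncomputable def T0d : List ℕ := [nat_lit 0x1dafc1cf6925702409d646f9b67d9c913766e36d0bf2d2f65c578898ecaccef25541fec9f646735d8f95bf635343e3dec672a5057e3aec5e8ca861d8af1af627c6872dec478c7c5dd87891e483729c28d13e64ac3be22f0f760fc33e16e487213a0be0eec0f81bc05e00,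
  nat_lit 0x1bc81a44ebb482319577682f7f23d913c4d7b37d9969ce67bb2d39df207654d3133b3d0e2b7845b90cc7c6dca67e3e849f63124b8929d6762eb1be38f1b4ca7b12830f197623c5fb11f15e43bc55c07f147613c4de23f0ff873c35e17f0a760b90bc06f057607c07e00,
  nat_lit 0x1c0c55b2cfa702368dee2ffb3f0b53d0c4b9e7332470d54787793ad54b4c77b2733eb996257075b9cec74cc4c45d8ce4978ed25e79881a5a37b15399f1bca266514a5dd3ecabc61b17f16761a94dd85f14f48ea11d83f106c53c37d82dc87847b03e0ff05f81fc09e00,
  nat_lit 0x140c1d4ab2476331ed162a5f6bcbdecd86f2070f9f69f5eae74dd95450c6da661d93c1fea5bb1f399e0bd0468312b4e471a94e6fd8bf1cd2ca55db28ec4b6ce838820d4a2cbf055a8af16f48fb0dc07ec2789ee3de24ec1f87643558dec1784bc21d81f067823c0be00,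
  nat_lit 0x1baed4aec9577da259e8500c5c43131b8690a3801fecbb0f897121a4cf1ae5d29716c93de4bc7f09dcd5f267b18136dc878f3b1669b05a28be0505b539046c3a4dd88f19dab3b0ef2dec360a9f15b23d876a3fb07e25f10c047b05e18f0af84f909d05f06f827b01e01]
noncomputable def T0 (k u : ℕ) : ℕ := Nat.land (Nat.shiftRight (nth (nat_lit 0) T0d k) (Nat.mul u (nat_lit 13))) (nat_lit 8191)
noncomputable def I0d : List ℕ := [nat_lit 0x503344702036702803b4004020a1026103201015011062432551101182c10119,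
  nat_lit 0x100000000001000000011000101010101011111110001012,
  nat_lit 0x360430a022005947402030b040000016020001307041310201200151001011118,
  nat_lit 0x30022000002220030000023000020010000042040013030141010301101115,
  nat_lit 0x70000500036000222090200148000510022022040100302002001130111021101]
noncomputable def I0 (k u : ℕ) : ℕ := Nat.land (Nat.shiftRight (nth (nat_lit 0) I0d k) (Nat.mul u (nat_lit 4))) (nat_lit 15)
noncomputable def D0d : ℕ := nat_lit 0xecd1b5b4aeaca09e8d8988877d77746e6b6a69626160564d4c4942403f3d3c3b39383735332f2e2d2c292827242221201c1614131211100e0d0c0a080706050400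
noncomputable def D0 (u : ℕ) : ℕ := Nat.land (Nat.shiftRight D0d (Nat.mul u (nat_lit 8))) (nat_lit 255)
noncomputable def RL0 : List (List Rule) := [[.rel (nat_lit 0) (nat_lit 0) [nat_lit 1], .defn, .rel (nat_lit 14) (nat_lit 2) [nat_lit 3, nat_lit 3, nat_lit 0, nat_lit 2, nat_lit 0, nat_lit 0], .rel (nat_lit 14) (nat_lit 1) [nat_lit 0, nat_lit 3, nat_lit 3, nat_lit 0, nat_lit 2, nat_lit 0], .rel (nat_lit 14) (nat_lit 0) [nat_lit 0, nat_lit 0, nat_lit 3, nat_lit 3, nat_lit 0, nat_lit 2], .rel (nat_lit 12) (nat_lit 2) [nat_lit 2, nat_lit 0, nat_lit 2, nat_lit 0, nat_lit 2], .rel (nat_lit 14) (nat_lit 5) [nat_lit 2, nat_lit 0, nat_lit 0, nat_lit 0, nat_lit 3, nat_lit 3], .rel (nat_lit 12) (nat_lit 0) [nat_lit 2, nat_lit 0, nat_lit 2, nat_lit 0, nat_lit 2], .rel (nat_lit 12) (nat_lit 4) [nat_lit 2, nat_lit 0, nat_lit 2, nat_lit 0, nat_lit 2], .sub (nat_lit 0) [] [], .rel (nat_lit 18) (nat_lit 8) [nat_lit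 4, nat_lit 0, nat_lit 4, nat_lit 0, nat_lit 4, nat_lit 0, nat_lit 4, nat_lit 0, nat_lit 4], .rel (nat_lit 20) (nat_lit 0) [nat_lit 0, nat_lit 0, nat_lit 0, nat_lit 2, nat_lit 4, nat_lit 3, nat_lit 0, nat_lit 2, nat_lit 4, nat_lit 3], .rel (nat_lit 20) (nat_lit 7) [nat_lit 2, nat_lit 4, nat_lit 3, nat_lit 0, nat_lit 0, nat_lit 0, nat_lit 0, nat_lit 2, nat_lit 4, nat_lit 3]],
  [.rel (nat_lit 2) (nat_lit 0) [nat_lit 0], .defn, .sub (nat_lit 2) [] []],
  [.rel (nat_lit 4) (nat_lit 0) [nat_lit 3], .defn, .rel (nat_lit 12) (nat_lit 5) [nat_lit 0, nat_lit 2, nat_lit 0, nat_lit 2, nat_lit 0], .rel (nat_lit 12) (nat_lit 1) [nat_lit 0, nat_lit 2, nat_lit 0, nat_lit 2, nat_lit 0], .rel (nat_lit 14) (nat_lit 6) [nat_lit 0, nat_lit 0, nat_lit 0, nat_lit 3, nat_lit 3, nat_lit 0], .rel (nat_lit 12) (nat_lit 3) [nat_lit 0, nat_lit 2, nat_lit 0, nat_lit 2, nat_lit 0], .rel (nat_lit 16) (nat_lit 0) [nat_lit 4, nat_lit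 2, nat_lit 4, nat_lit 2, nat_lit 4], .rel (nat_lit 16) (nat_lit 2) [nat_lit 4, nat_lit 2, nat_lit 4, nat_lit 2, nat_lit 4], .sub (nat_lit 4) [] [], .rel (nat_lit 16) (nat_lit 4) [nat_lit 4, nat_lit 2, nat_lit 4, nat_lit 2, nat_lit 4], .rel (nat_lit 20) (nat_lit 4) [nat_lit 4, nat_lit 3, nat_lit 0, nat_lit 2, nat_lit 4, nat_lit 3, nat_lit 0, nat_lit 0, nat_lit 0, nat_lit 0], .rel (nat_lit 20) (nat_lit 8) [nat_lit 4, nat_lit 3, nat_lit 0, nat_lit 0, nat_lit 0, nat_lit 0, nat_lit 2, nat_lit 4, nat_lit 3, nat_lit 0]],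
  [.rel (nat_lit 6) (nat_lit 0) [nat_lit 2], .defn, .rel (nat_lit 14) (nat_lit 3) [nat_lit 3, nat_lit 0, nat_lit 2, nat_lit 0, nat_lit 0, nat_lit 0], .rel (nat_lit 14) (nat_lit 4) [nat_lit 0, nat_lit 2, nat_lit 0, nat_lit 0, nat_lit 0, nat_lit 3], .rel (nat_lit 20) (nat_lit 10) [nat_lit 0, nat_lit 0, nat_lit 0, nat_lit 0, nat_lit 2, nat_lit 4, nat_lit 3, nat_lit 0, nat_lit 2, nat_lit 4], .sub (nat_lit 6) [] []],
  [.rel (nat_lit 8) (nat_lit 0) [nat_lit 4], .defn, .rel (nat_lit 16) (nat_lit 5) [nat_lit 2, nat_lit 4, nat_lit 2, nat_lit 4, nat_lit 2], .rel (nat_lit 16) (nat_lit 3) [nat_lit 2, nat_lit 4, nat_lit 2, nat_lit 4, nat_lit 2], .rel (nat_lit 18) (nat_lit 9) [nat_lit 0, nat_lit 4, nat_lit 0, nat_lit 4, nat_lit 0, nat_lit 4, nat_lit 0, nat_lit 4, nat_lit 0], .rel (nat_lit 20) (nat_lit 5) [nat_lit 3, nat_lit 0, nat_lit 2, nat_lit 4, nat_lit 3, nat_lit 0, nat_lit 0, nat_lit 0, nat_lit 0, nat_lit 2],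 .rel (nat_lit 16) (nat_lit 1) [nat_lit 2, nat_lit 4, nat_lit 2, nat_lit 4, nat_lit 2], .rel (nat_lit 18) (nat_lit 1) [nat_lit 0, nat_lit 4, nat_lit 0, nat_lit 4, nat_lit 0, nat_lit 4, nat_lit 0, nat_lit 4, nat_lit 0], .rel (nat_lit 18) (nat_lit 3) [nat_lit 0, nat_lit 4, nat_lit 0, nat_lit 4, nat_lit 0, nat_lit 4, nat_lit 0, nat_lit 4, nat_lit 0], .rel (nat_lit 18) (nat_lit 5) [nat_lit 0, nat_lit 4, nat_lit 0, nat_lit 4, nat_lit 0, nat_lit 4, nat_lit 0, nat_lit 4, nat_lit 0]]]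
noncomputable def c0 : TCert := ⟨65, 5, 127, T0, I0, D0, [[nat_lit 0],
  [nat_lit 1],
  [nat_lit 2],
  [nat_lit 3]], RL0⟩
noncomputable def Pt0 (u : ℕ) : ℕ := u
noncomputable def Q0 (u : ℕ) : ℕ := u
noncomputable def l0 : Lev := ⟨65, 5, D0, Pt0, Q0⟩
noncomputable def T1d : List ℕ := [nat_lit 0x5af0f7df0efdf261fb869f23435bebc7e4620a4f1dd60f1c67ceea938ab2f7ff19caee6df156b9f7a756f12f10f76f0ff74f73f71f0ce9ff6cf0b327f68ed7f09f6595a2d1f07f61eca39e353f5bf58f04f54ec5f02e8ef4df01f48f46f43f40,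
  nat_lit 0xf2bc35ebc62f1baf256668ed0bef213f7f1ff1ea6cf1ddbd57fc69e28f1abb6eae839f172d8f7bf14073f78434f10d31e5b34ef72f70f0c913f6af0be96724f67f0930df63292f62f60e46f05f5cf59e8ff55f03f51f02e88f4af01f47f44f40,
  nat_lit 0x4b4f29f27f261bb13e7688f03b3d3dbebe62e3c57fea09eaf1bcf162fbb6f19eb2f17838018f1423a265f79f77d9df75aecf0df0ce93f6ef6da21e96f0af09e5e723f08f64315f06dd0f5fedcf04f5ae51f03f52e82f4ff4ef4bec7f00f45f41,
  nat_lit 0x53217acf6df317b265f237e8f22b6cf204ff3f7e6ad2e8b85edf1bf1ab1fc359b0f7e7b9f7df7c2a4f126d4e34a59e71f0ee95d61e8df6ff0bf6b067f69e58351f66edcf08e0ae0ff06f05f5ef5df04f57f56f53e83f50f01f4cf49ec7f00f42]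
noncomputable def T1 (k u : ℕ) : ℕ := Nat.land (Nat.shiftRight (nth (nat_lit 0) T1d k) (Nat.mul u (nat_lit 12))) (nat_lit 4095)
noncomputable def I1d : List ℕ := [nat_lit 0x3254122163926151422201431402110100013015041028102560010313010007,
  nat_lit 0x100100000110010001001011001101010010112,
  nat_lit 0x400405033252002204030000113100001102000301000120120101112011,
  nat_lit 0x200030000032020000220121130002002001012102120020011011101011201]
noncomputable def I1 (k u : ℕ) : ℕ := Nat.land (Nat.shiftRight (nth (nat_lit 0) I1d k) (Nat.mul u (nat_lit 4))) (nat_lit 15)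
noncomputable def D1d : ℕ := nat_lit 0xaca79f9b99948e8d8a84827c787574716f6e6a6867655f5c5553504a4941403d3a373331302e2d2c2b27252423221d1b1a16141312110f0c0908060504030200
noncomputable def D1 (u : ℕ) : ℕ := Nat.land (Nat.shiftRight D1d (Nat.mul u (nat_lit 8))) (nat_lit 255)
noncomputable def RL1 : List (List Rule) := [[.defn, .rel (nat_lit 0) (nat_lit 0) [nat_lit 1], .rel (nat_lit 14) (nat_lit 0) [nat_lit 0, nat_lit 0, nat_lit 3, nat_lit 3, nat_lit 0, nat_lit 2], .rel (nat_lit 14) (nat_lit 2) [nat_lit 3, nat_lit 3, nat_lit 0, nat_lit 2, nat_lit 0, nat_lit 0], .rel (nat_lit 14) (nat_lit 5) [nat_lit 2, nat_lit 0, nat_lit 0, nat_lit 0, nat_lit 3, nat_lit 3], .rel (nat_lit 14) (nat_lit 1) [nat_lit 0, nat_lit 3, nat_lit 3, nat_lit 0, nat_lit 2, nat_lit 0], .rel (nat_lit 12) (nat_lit 2) [nat_lit 2, nat_lit 0, nat_lit 2, nat_lit 0, nat_lit 2], .sub (nat_lit 0) [] [], .rel (nat_lit 12) (nat_lit 0) [nat_lit 2,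 nat_lit 0, nat_lit 2, nat_lit 0, nat_lit 2], .rel (nat_lit 12) (nat_lit 4) [nat_lit 2, nat_lit 0, nat_lit 2, nat_lit 0, nat_lit 2]],
  [.rel (nat_lit 2) (nat_lit 0) [nat_lit 0], .defn, .sub (nat_lit 2) [] []],
  [.rel (nat_lit 4) (nat_lit 0) [nat_lit 3], .defn, .rel (nat_lit 12) (nat_lit 5) [nat_lit 0, nat_lit 2, nat_lit 0, nat_lit 2, nat_lit 0], .rel (nat_lit 12) (nat_lit 3) [nat_lit 0, nat_lit 2, nat_lit 0, nat_lit 2, nat_lit 0], .rel (nat_lit 12) (nat_lit 1) [nat_lit 0, nat_lit 2, nat_lit 0, nat_lit 2, nat_lit 0], .rel (nat_lit 14) (nat_lit 6) [nat_lit 0, nat_lit 0, nat_lit 0, nat_lit 3, nat_lit 3, nat_lit 0]],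
  [.rel (nat_lit 6) (nat_lit 0) [nat_lit 2], .defn, .rel (nat_lit 14) (nat_lit 4) [nat_lit 0, nat_lit 2, nat_lit 0, nat_lit 0, nat_lit 0, nat_lit 3], .rel (nat_lit 14) (nat_lit 3) [nat_lit 3, nat_lit 0, nat_lit 2, nat_lit 0, nat_lit 0, nat_lit 0]]]
noncomputable def c1 : TCert := ⟨64, 4, 63, T1, I1, D1, [[nat_lit 0],
  [nat_lit 1]], RL1⟩
noncomputable def Pt1d : ℕ := nat_lit 0x66d95a180f0aad36fda9a6ef9e934aecc3a72b173064bd8a65425a38529d2234480f9e3a34b962444a19383c70c16284060ea02030440085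
noncomputable def Pt1 (u : ℕ) : ℕ := Nat.land (Nat.shiftRight Pt1d (Nat.mul u (nat_lit 7))) (nat_lit 127)
noncomputable def Q1d : ℕ := nat_lit 0x3bdb2c7abacae0cfed61fe79689a9e2af637c67a4bdd71bf1a6585cfdf442d554e51c1348238d58c2ca8891c8005103040
noncomputable def Q1 (u : ℕ) : ℕ := Nat.land (Nat.shiftRight Q1d (Nat.mul u (nat_lit 6))) (nat_lit 63)
noncomputable def l1 : Lev := ⟨64, 4, D1, Pt1, Q1⟩
noncomputable def T2d : List ℕ := [nat_lit 0x2c7aaf68ee6e64de2d60cf1,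
  nat_lit 0xdafea7c9fa9788f6874832]
noncomputable def T2 (k u : ℕ) : ℕ := Nat.land (Nat.shiftRight (nth (nat_lit 0) T2d k) (Nat.mul u (nat_lit 6))) (nat_lit 63)
noncomputable def I2d : List ℕ := [nat_lit 0x8444445,
  nat_lit 0x1111111]
noncomputable def I2 (k u : ℕ) : ℕ := Nat.land (Nat.shiftRight (nth (nat_lit 0) I2d k) (Nat.mul u (nat_lit 2))) (nat_lit 3)
noncomputable def D2d : ℕ := nat_lit 0x66d5945cd524c510400
noncomputable def D2 (u : ℕ) : ℕ := Nat.land (Nat.shiftRight D2d (Nat.mul u (nat_lit 5))) (nat_lit 31)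
noncomputable def RL2 : List (List Rule) := [[.rel (nat_lit 0) (nat_lit 0) [nat_lit 1], .defn, .rel (nat_lit 10) (nat_lit 14) [nat_lit 0, nat_lit 0, nat_lit 0, nat_lit 0, nat_lit 0, nat_lit 0, nat_lit 0, nat_lit 0, nat_lit 0, nat_lit 0, nat_lit 0, nat_lit 0, nat_lit 0, nat_lit 0]],
  [.rel (nat_lit 2) (nat_lit 0) [nat_lit 0], .defn]]
noncomputable def c2 : TCert := ⟨15, 2, 15, T2, I2, D2, [], RL2⟩
noncomputable def Pt2d : ℕ := nat_lit 0x20b9664c4f3c1700faf5855dae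
noncomputable def Pt2 (u : ℕ) : ℕ := Nat.land (Nat.shiftRight Pt2d (Nat.mul u (nat_lit 7))) (nat_lit 127)
noncomputable def Q2d : ℕ := nat_lit 0x60008100000000ba0400300000000000059000000dc2000000000700e00000000
noncomputable def Q2 (u : ℕ) : ℕ := Nat.land (Nat.shiftRight Q2d (Nat.mul u (nat_lit 4))) (nat_lit 15)
noncomputable def l2 : Lev := ⟨15, 2, D2, Pt2, Q2⟩
noncomputable def B : List ℕ := [nat_lit 0, nat_lit 5, nat_lit 46]
noncomputable def L : List Lev := [l0, l1, l2]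
noncomputable def Rs : List Root := [⟨(nat_lit 1), [[nat_lit 4],
  [nat_lit 4]], [((nat_lit 6), [nat_lit 5]),
  ((nat_lit 4), [nat_lit 5])]⟩]
noncomputable def Fod : ℕ := nat_lit 0xabdad0891890ac488a88087f87189cabbae287eae485d85887485b877aa987dacb84563e63d63b84688b633631630abf62e62d62c62b629adf8a4872882621620aaa61d88d61b61a41741241062340f40e40da6540b40a408207206205204001000
noncomputable def Fo (u : ℕ) : ℕ := Nat.land (Nat.shiftRight Fod (Nat.mul u (nat_lit 12))) (nat_lit 4095)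
noncomputable def nx : List ℕ := [nat_lit 4, nat_lit 0, nat_lit 0]
noncomputable def nL : List (List ℕ × ℕ) := [([nat_lit 4, nat_lit 3, nat_lit 0, nat_lit 3], (nat_lit 15)),
  ([nat_lit 3], (nat_lit 15)),
  ([], (nat_lit 15)),
  ([nat_lit 0], (nat_lit 15)),
  ([nat_lit 2], (nat_lit 2))]

theorem tc0e_a : allZ2 (entryChk T0 (selR RL0 I0) D0 (nat_lit 127) (nat_lit 65) (nat_lit 5)) (nat_lit 5) (nat_lit 65) = true := by decide +kernel
theorem tc0r : rulesChk Rl c0.Sl RL0 (nat_lit 5) = true := by decide +kernel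
theorem ivc : ivChk Rl (nat_lit 5) = true := by decide +kernel
theorem lv0e_0 : allZ (l0.ent P) (nat_lit 0) (nat_lit 64) = true := by decide +kernel
theorem lv0b : Nat.blt (Pt0 (nat_lit 0)) (nat_lit 65) = true ∧ Q0 (Pt0 (nat_lit 0)) = 0 ∧ Pt0 (nat_lit 0) = 0 := by decide +kernel
theorem sb0 : allL (ltAll (nat_lit 4)) c0.Sl = true ∧ fixLetters P (nat_lit 4) (Pt0 (nat_lit 0)) = true := by decide +kernel
theorem tc1e_a : allZ2 (entryChk T1 (selR RL1 I1) D1 (nat_lit 63) (nat_lit 64) (nat_lit 4)) (nat_lit 4) (nat_lit 64) = true := by decide +kernel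
theorem tc1r : rulesChk Rl c1.Sl RL1 (nat_lit 4) = true := by decide +kernel
theorem lv1e_0 : allZ (l1.ent P) (nat_lit 0) (nat_lit 63) = true := by decide +kernel
theorem lv1b : Nat.blt (Pt1 (nat_lit 0)) (nat_lit 65) = true ∧ Q1 (Pt1 (nat_lit 0)) = 0 ∧ Pt1 (nat_lit 0) = 5 := by decide +kernel
theorem sb1 : allL (ltAll (nat_lit 2)) c1.Sl = true ∧ fixLetters P (nat_lit 2) (Pt1 (nat_lit 0)) = true := by decide +kernel
theorem tc2e_a : allZ2 (entryChk T2 (selR RL2 I2) D2 (nat_lit 15) (nat_lit 15) (nat_lit 2)) (nat_lit 2) (nat_lit 15) = true := by decide +kernel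
theorem tc2r : rulesChk Rl c2.Sl RL2 (nat_lit 2) = true := by decide +kernel
theorem lv2e_0 : allZ (l2.ent P) (nat_lit 0) (nat_lit 14) = true := by decide +kernel
theorem lv2b : Nat.blt (Pt2 (nat_lit 0)) (nat_lit 65) = true ∧ Q2 (Pt2 (nat_lit 0)) = 0 ∧ Pt2 (nat_lit 0) = 46 := by decide +kernel
theorem sb2 : allL (ltAll (nat_lit 0)) c2.Sl = true ∧ fixLetters P (nat_lit 0) (Pt2 (nat_lit 0)) = true := by decide +kernel
theorem Blt : ltAll (nat_lit 65) B = 0 := by decide +kernel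
theorem ivk : ivLt Rl (nat_lit 5) = true := by decide +kernel
theorem pe_a : allZ2 (permEnt P (ivOf Rl) (nat_lit 65)) (nat_lit 5) (nat_lit 65) = true := by decide +kernel
theorem rf0 : allL (fixRange P (nat_lit 5) (nat_lit 0) (nat_lit 65)) (Rl.drop (nat_lit 5)) = true := by decide +kernel
theorem Foe_0 : allZ (forEnt P Fo (nat_lit 4) (nat_lit 511) (nat_lit 65) ((nat_lit 0) :: Rs.map Root.r)) (nat_lit 0) (nat_lit 65) = true := by decide +kernel
theorem rtc : allL (Root.chk P (nat_lit 5) B (nat_lit 4) (nat_lit 0)) Rs = true ∧ fixLetters P (nat_lit 4) (nat_lit 0) = true := by decide +kernel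
theorem nc1 : allZ (fun k => force k (nclEnt P Rl (nat_lit 5) B nx nL)) 0 (nat_lit 5) = true := by decide +kernel
theorem nc2 : powL P (nat_lit 5) B nx (nat_lit 13) = 0 := by decide +kernel

theorem tc0e : ∀ k < 5, ∀ i < 65, (entryChk T0 (selR RL0 I0) D0 (nat_lit 127) (nat_lit 65) (nat_lit 5)) k i = 0 := allZ2_sound tc0e_a
theorem tc0 : c0.OK Rl 5 := ⟨by decide, by decide, by decide, ivc, tc0r, tc0e⟩
theorem lv0e : ∀ i < 64, (l0.ent P) i = 0 := allZ_sound0 lv0e_0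
theorem lv0 : l0.OK P 65 := ⟨by decide, by decide, lt_of_blt lv0b.1, lv0b.2.1, lv0e⟩
theorem tc1e : ∀ k < 4, ∀ i < 64, (entryChk T1 (selR RL1 I1) D1 (nat_lit 63) (nat_lit 64) (nat_lit 4)) k i = 0 := allZ2_sound tc1e_a
theorem tc1 : c1.OK Rl 5 := ⟨by decide, by decide, by decide, ivc, tc1r, tc1e⟩
theorem lv1e : ∀ i < 63, (l1.ent P) i = 0 := allZ_sound0 lv1e_0
theorem lv1 : l1.OK P 65 := ⟨by decide, by decide, lt_of_blt lv1b.1, lv1b.2.1, lv1e⟩
theorem tc2e : ∀ k < 2, ∀ i < 15, (entryChk T2 (selR RL2 I2) D2 (nat_lit 15) (nat_lit 15) (nat_lit 2)) k i = 0 := allZ2_sound tc2e_a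
theorem tc2 : c2.OK Rl 5 := ⟨by decide, by decide, by decide, ivc, tc2r, tc2e⟩
theorem lv2e : ∀ i < 14, (l2.ent P) i = 0 := allZ_sound0 lv2e_0
theorem lv2 : l2.OK P 65 := ⟨by decide, by decide, lt_of_blt lv2b.1, lv2b.2.1, lv2e⟩
theorem bound2 : Bound Rl 2 15 := Bound.step' (Bound.zero Rl) tc2 sb2.1 (by decide +kernel)
theorem bound1 : Bound Rl 4 960 := Bound.step' (bound2) tc1 sb1.1 (by decide +kernel)
theorem bound0 : Bound Rl 5 62400 := Bound.step' (bound1) tc0 sb0.1 (by decide +kernel)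
/-- every tuple satisfying `Rl` generates a group of order at most `62400` -/
theorem bound : Bound Rl 5 62400 := bound0
theorem chain_of {G Ω : Type*} [Group G] [MulAction G Ω] {g : ℕ → G} {pt : ℕ → Ω}
    (h : Act g pt P 65 5) (hR : Rels g Rl) : IsChain g pt 65 L :=
  IsChain.cons (L := [l1, l2]) (IsChain.cons (L := [l2]) (IsChain.cons (L := []) (trivial) h hR tc2 lv2 rfl rfl rfl (by decide) sb2.1 sb2.2) h hR tc1 lv1 rfl rfl rfl (by decide) sb1.1 sb1.2) h hR tc0 lv0 rfl rfl rfl (by decide) sb0.1 sb0.2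
theorem base_eq : chainBase L = B := by decide +kernel
theorem pe : ∀ k < 5, ∀ i < 65, (permEnt P (ivOf Rl) (nat_lit 65)) k i = 0 := allZ2_sound pe_a
/-- the letters -/
noncomputable def g : ℕ → Equiv.Perm (Fin 65) := permGen 65 P
theorem act : Act g (ptF 65) P 65 5 := act_permGen pe
theorem rels : Rels g Rl :=
  rels_perm pe ivc ivk (FixUpTo.first rf0)
theorem chain : IsChain g (ptF 65) 65 L := chain_of act rels
theorem card : Nat.card (gen g 5) = 62400 := chain.card' (ptF_inj 65) (by decide +kernel)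
theorem isBase : IsBase (gen g 5) (ptF 65) B := base_eq ▸ chain.isBase (ptF_inj 65)
theorem Foe : ∀ i < 65, (forEnt P Fo (nat_lit 4) (nat_lit 511) (nat_lit 65) ((nat_lit 0) :: Rs.map Root.r)) i = 0 := allZ_sound0 Foe_0
theorem maxCert_of' {G Ω : Type*} [Group G] [MulAction G Ω] {g : ℕ → G} {pt : ℕ → Ω}
    (h : Act g pt P 65 5) (hb : IsBase (gen g 5) pt B) : MaxCert g pt 65 5 4 0 :=
  maxCert_of h Blt hb (by decide) Foe rtc.2 rtc.1
theorem maxCert : MaxCert g (ptF 65) 65 l0.K (topK [l1, l2]) (l0.Pt 0) :=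
  lv0b.2.2 ▸ maxCert_of' act isBase
theorem simple : IsSimpleGroup (gen g 5) :=
  simple_of_cert (l := l0) (L := [l1, l2]) chain (ptF_inj 65) maxCert Blt isBase
    (evA_mem_gen g (powL_eq_one act Blt isBase nc2).1) (powL_eq_one act Blt isBase nc2).2
    (by decide +kernel) (by decide) fun _ hA hx => ncl_sound act Blt isBase rels ivc nc1 le_rfl hA hx

end H20.XU34
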